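import Cfsg.Agent.Lib.Lead.RuOut.Base0
import Cfsg.Agent.Lib.Helper6.RuSimple
import Cfsg.Agent.Lib.Helper6.OutGeneric

/-! # The outer automorphism group of the Rudvalis group: the permutation group on the rows of the coset table (generated) -/

set_option autoImplicit false
set_option maxRecDepth 100000

namespace Cfsg.Agent.RuOut

open Cfsg.Agent.PF Cfsg.Agent.Lib.Helper6 Cfsg.Agent.Lib.Helper6.TC Cfsg.Agent.Lib.Helper6.NatArr
open Cfsg.Agent.PL (Acts evalF)

open Cfsg Cfsg.Spor Cfsg.Agent.Lib.Helper6.RuSub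

/-- the action on the rows -/
noncomputable abbrev ρ : P5 →* Equiv.Perm (Fin 8120) := RuP5TC.data.cert.ρ

/-- the image of the group -/
noncomputable abbrev P : Subgroup (Equiv.Perm (Fin 8120)) := ρ.range

/-- the generator `i` -/
noncomputable abbrev gI (i : ℕ) : P5 := PresentedGroup.of (RuP5TC.data.gen i)

theorem acts_gen {i : ℕ} (hi : i < 5) : Acts (ρ (gI i)) (fgen i) := by
  intro q hq
  have h1 : ρ (gI i) = RuP5TC.data.T.perm RuP5TC.data.chk_tab i :=
    Simp.ρ_of_gen RuP5TC.data (by rw [← RuP5TC.data.hTg]; exact hi)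
  rw [h1]
  exact RuP5TC.data.T.perm_apply RuP5TC.data.chk_tab hi ⟨q, hq⟩

theorem rep_gen {i : ℕ} (hi : i < 5) : Rep P (fgen i) := ⟨ρ (gI i), ⟨gI i, rfl⟩, acts_gen hi⟩

theorem chk_move : fgen 0 2 ≠ 2 := by decide +kernel

theorem ρ_inj : Function.Injective ρ := by
  haveI := RuSimple.main.1
  rw [← MonoidHom.ker_eq_bot_iff]
  rcases (MonoidHom.normal_ker ρ).eq_bot_or_eq_top with h | h
  · exact h
  · exfalso
    have h1 : ρ (gI 0) = 1 := MonoidHom.mem_ker.1 (h ▸ Subgroup.mem_top _)
    have h2 := acts_gen (i := 0) (by norm_num) 2 (by norm_num)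
    rw [h1] at h2
    exact chk_move h2.symm

/-- the isomorphism of the group onto its image -/
noncomputable def iso : P5 ≃* ↥P := MonoidHom.ofInjective ρ_inj

theorem card_P : Nat.card ↥P = 145926144000 := by
  rw [← RuSimple.main.2]
  exact (Nat.card_congr iso.toEquiv).symm

end Cfsg.Agent.RuOut
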