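import Cfsg.Agent.Lib.Lead.PF.Tab2
import Cfsg.Agent.Lib.Helper6.RuP5TCData

/-! # The outer automorphism group of the Rudvalis group: the columns of the coset table (generated) -/

set_option autoImplicit false
set_option maxRecDepth 100000

namespace Cfsg.Agent.RuOut

open Cfsg.Agent.PF Cfsg.Agent.Lib.Helper6 Cfsg.Agent.Lib.Helper6.TC Cfsg.Agent.Lib.Helper6.NatArr
open Cfsg.Agent.PL (Acts evalF)

/-- the map of the generator `i` -/
noncomputable def fgen (i : ℕ) : ℕ → ℕ := fun a => RuP5TC.tab.nxt a i

end Cfsg.Agent.RuOut
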