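import Cfsg.Agent.Lib.Lead.RuOut.D10

/-! # The outer automorphism group of the Rudvalis group: the check of the table number 10, slices (generated) -/

set_option autoImplicit false
set_option Elab.async false
set_option maxRecDepth 100000

namespace Cfsg.Agent.RuOut

open Cfsg.Agent.PF Cfsg.Agent.Lib.Helper6 Cfsg.Agent.Lib.Helper6.TC Cfsg.Agent.Lib.Helper6.NatArr
open Cfsg.Agent.PL (Acts evalF)

theorem eq10_0 : allR 0 2707 (fun q => (fun q => Nat.beq (f10 q) (wordR W10 q)) q) = true := by decide +kernel

theorem eq10_1 : allR 2707 2707 (fun q => (fun q => Nat.beq (f10 q) (wordR W10 q)) q) = true := by decide +kernel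

theorem eq10_2 : allR 5414 2706 (fun q => (fun q => Nat.beq (f10 q) (wordR W10 q)) q) = true := by decide +kernel


end Cfsg.Agent.RuOut
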