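import Cfsg.Agent.Lib.Lead.RuOut.D14

/-! # The outer automorphism group of the Rudvalis group: the check of the table number 14, slices (generated) -/

set_option autoImplicit false
set_option Elab.async false
set_option maxRecDepth 100000

namespace Cfsg.Agent.RuOut

open Cfsg.Agent.PF Cfsg.Agent.Lib.Helper6 Cfsg.Agent.Lib.Helper6.TC Cfsg.Agent.Lib.Helper6.NatArr
open Cfsg.Agent.PL (Acts evalF)

theorem eq14_0 : allR 0 8120 (fun q => (fun q => Nat.beq (f14 q) (wordR W14 q)) q) = true := by decide +kernel


end Cfsg.Agent.RuOut
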