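import Cfsg.Agent.Lib.Lead.RuOut.C2_0

/-! # The outer automorphism group of the Rudvalis group: the check of the table number 2 (generated) -/

set_option autoImplicit false
set_option maxRecDepth 100000

namespace Cfsg.Agent.RuOut

open Cfsg.Agent.PF Cfsg.Agent.Lib.Helper6 Cfsg.Agent.Lib.Helper6.TC Cfsg.Agent.Lib.Helper6.NatArr
open Cfsg.Agent.PL (Acts evalF)

theorem eq2_all : ∀ q < 8120, (fun q => Nat.beq (f2 q) (fgen 2 q)) q = true :=
  forall_lt_of_chunks (f := fun q => (fun q => Nat.beq (f2 q) (fgen 2 q)) q) [(0, 8120)] (by decide)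
    (all_cons eq2_0 all_nil)

/-- the table agrees with the column of the coset table -/
theorem eq2 : ∀ q < 8120, f2 q = fgen 2 q :=
  fun q hq => Nat.eq_of_beq_eq_true (eq2_all q hq)

end Cfsg.Agent.RuOut
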