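import Cfsg.Agent.Lib.Lead.RuOut.LevAD

/-! # The outer automorphism group of the Rudvalis group: the centraliser of `x`, slices (generated) -/

set_option autoImplicit false
set_option Elab.async false
set_option maxRecDepth 100000

namespace Cfsg.Agent.RuOut

open Cfsg.Agent.PF Cfsg.Agent.Lib.Helper6 Cfsg.Agent.Lib.Helper6.TC Cfsg.Agent.Lib.Helper6.NatArr
open Cfsg.Agent.PL (Acts evalF)

theorem chk_centX_0 : allR 0 625 (fun q => centP 8120 7 f11 [0, 1] 29 LA0 LsA q) = true := by decide +kernel

theorem chk_centX_1 : allR 625 625 (fun q => centP 8120 7 f11 [0, 1] 29 LA0 LsA q) = true := by decide +kernel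

theorem chk_centX_2 : allR 1250 625 (fun q => centP 8120 7 f11 [0, 1] 29 LA0 LsA q) = true := by decide +kernel

theorem chk_centX_3 : allR 1875 625 (fun q => centP 8120 7 f11 [0, 1] 29 LA0 LsA q) = true := by decide +kernel

theorem chk_centX_4 : allR 2500 625 (fun q => centP 8120 7 f11 [0, 1] 29 LA0 LsA q) = true := by decide +kernel

theorem chk_centX_5 : allR 3125 625 (fun q => centP 8120 7 f11 [0, 1] 29 LA0 LsA q) = true := by decide +kernel

theorem chk_centX_6 : allR 3750 625 (fun q => centP 8120 7 f11 [0, 1] 29 LA0 LsA q) = true := by decide +kernel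

theorem chk_centX_7 : allR 4375 625 (fun q => centP 8120 7 f11 [0, 1] 29 LA0 LsA q) = true := by decide +kernel

theorem chk_centX_8 : allR 5000 625 (fun q => centP 8120 7 f11 [0, 1] 29 LA0 LsA q) = true := by decide +kernel

theorem chk_centX_9 : allR 5625 625 (fun q => centP 8120 7 f11 [0, 1] 29 LA0 LsA q) = true := by decide +kernel

theorem chk_centX_10 : allR 6250 625 (fun q => centP 8120 7 f11 [0, 1] 29 LA0 LsA q) = true := by decide +kernel

theorem chk_centX_11 : allR 6875 625 (fun q => centP 8120 7 f11 [0, 1] 29 LA0 LsA q) = true := by decide +kernel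

theorem chk_centX_12 : allR 7500 620 (fun q => centP 8120 7 f11 [0, 1] 29 LA0 LsA q) = true := by decide +kernel


end Cfsg.Agent.RuOut
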