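import Cfsg.Agent.Lib.Lead.RuOut.D20
import Cfsg.Agent.Lib.Lead.RuOut.D12

/-! # The outer automorphism group of the Rudvalis group: the action of `w` on `y`, slices (generated) -/

set_option autoImplicit false
set_option Elab.async false
set_option maxRecDepth 100000

namespace Cfsg.Agent.RuOut

open Cfsg.Agent.PF Cfsg.Agent.Lib.Helper6 Cfsg.Agent.Lib.Helper6.TC Cfsg.Agent.Lib.Helper6.NatArr
open Cfsg.Agent.PL (Acts evalF)

theorem chk_wy_0 : allR 0 8120 (fun q => (fun q => Nat.beq ((fun q => f20 (f12 q)) q) ((fun q => f12^[1] (f20 q)) q)) q) = true := by decide +kernel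


end Cfsg.Agent.RuOut
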