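import Cfsg.Agent.Lib.Lead.RuOut.D11

/-! # The outer automorphism group of the Rudvalis group: `x` is not the identity (generated) -/

set_option autoImplicit false
set_option maxRecDepth 100000

namespace Cfsg.Agent.RuOut

open Cfsg.Agent.PF Cfsg.Agent.Lib.Helper6 Cfsg.Agent.Lib.Helper6.TC Cfsg.Agent.Lib.Helper6.NatArr
open Cfsg.Agent.PL (Acts evalF)

theorem chk_x1 : f11 0 ≠ 0 := by decide +kernel

end Cfsg.Agent.RuOut
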