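import Cfsg.Agent.Lib.Lead.RuOut.CntA3_0

/-! # The outer automorphism group of the Rudvalis group: the number of points of the tree number 3 of the chain `A` (generated) -/

set_option autoImplicit false
set_option maxRecDepth 100000

namespace Cfsg.Agent.RuOut

open Cfsg.Agent.PF Cfsg.Agent.Lib.Helper6 Cfsg.Agent.Lib.Helper6.TC Cfsg.Agent.Lib.Helper6.NatArr
open Cfsg.Agent.PL (Acts evalF)

/-- the number of points of the tree number 3 of the chain `A` -/
theorem lenA3 : (orbitL 8120 LA3.2.1 LA3.2.2 LA3.1 7).length = 26 := by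
  rw [length_orbitL]
  exact (countR_append cntA3_0 (cntA3_1) :
    countR 0 (4060 + (4060)) (traceTo LA3.2.1 LA3.2.2 LA3.1 7) = 6 + (20))

end Cfsg.Agent.RuOut
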