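import Cfsg.Agent.Lib.Lead.RuOut.LevAD

/-! # The outer automorphism group of the Rudvalis group: the number of points of the tree number 1 of the chain `A`, slices (generated) -/

set_option autoImplicit false
set_option Elab.async false
set_option maxRecDepth 100000

namespace Cfsg.Agent.RuOut

open Cfsg.Agent.PF Cfsg.Agent.Lib.Helper6 Cfsg.Agent.Lib.Helper6.TC Cfsg.Agent.Lib.Helper6.NatArr
open Cfsg.Agent.PL (Acts evalF)

theorem cntA1_0 : countR 0 4060 (traceTo LA1.2.1 LA1.2.2 LA1.1 7) = 1306 := by decide +kernel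

theorem cntA1_1 : countR 4060 4060 (traceTo LA1.2.1 LA1.2.2 LA1.1 7) = 998 := by decide +kernel


end Cfsg.Agent.RuOut
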