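import Cfsg.Agent.Lib.Lead.RuOut.CntB0
import Cfsg.Agent.Lib.Lead.RuOut.CntB1
import Cfsg.Agent.Lib.Lead.RuOut.CntB2
import Cfsg.Agent.Lib.Lead.RuOut.CntB3

/-! # The outer automorphism group of the Rudvalis group: the numbers of points of the trees of the chain `B` (generated) -/

set_option autoImplicit false
set_option maxRecDepth 100000

namespace Cfsg.Agent.RuOut

open Cfsg.Agent.PF Cfsg.Agent.Lib.Helper6 Cfsg.Agent.Lib.Helper6.TC Cfsg.Agent.Lib.Helper6.NatArr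
open Cfsg.Agent.PL (Acts evalF)

theorem chk_countsB : (treeCounts 8120 7 (LB0 :: LsB)).prod = 145926144000 := by
  have h : treeCounts 8120 7 (LB0 :: LsB) = [8120, 2304, 975, 8] := by
    show [(orbitL 8120 LB0.2.1 LB0.2.2 LB0.1 7).length, (orbitL 8120 LB1.2.1 LB1.2.2 LB1.1 7).length, (orbitL 8120 LB2.2.1 LB2.2.2 LB2.1 7).length, (orbitL 8120 LB3.2.1 LB3.2.2 LB3.1 7).length] = _
    rw [lenB0, lenB1, lenB2, lenB3]
  rw [h]
  rfl

end Cfsg.Agent.RuOut
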