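import Cfsg.Agent.Lib.Lead.RuOut.LevBD

/-! # The outer automorphism group of the Rudvalis group: the number of points of the tree number 0 of the chain `B`, slices (generated) -/

set_option autoImplicit false
set_option Elab.async false
set_option maxRecDepth 100000

namespace Cfsg.Agent.RuOut

open Cfsg.Agent.PF Cfsg.Agent.Lib.Helper6 Cfsg.Agent.Lib.Helper6.TC Cfsg.Agent.Lib.Helper6.NatArr
open Cfsg.Agent.PL (Acts evalF)

theorem cntB0_0 : countR 0 8120 (traceTo LB0.2.1 LB0.2.2 LB0.1 7) = 8120 := by decide +kernel


end Cfsg.Agent.RuOut
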