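import Cfsg.Agent.Lib.Lead.RuOut.Kill_0

/-! # The outer automorphism group of the Rudvalis group: the candidates for the images of `w` (generated) -/

set_option autoImplicit false
set_option maxRecDepth 100000

namespace Cfsg.Agent.RuOut

open Cfsg.Agent.PF Cfsg.Agent.Lib.Helper6 Cfsg.Agent.Lib.Helper6.TC Cfsg.Agent.Lib.Helper6.NatArr
open Cfsg.Agent.PL (Acts evalF)

theorem chk_kill_all : ∀ q < 8120, killF 8120 7 f11 f12 fv [] LB0 LsB kills 472 q = true :=
  forall_lt_of_chunks (f := fun q => killF 8120 7 f11 f12 fv [] LB0 LsB kills 472 q) [(0, 625), (625, 625), (1250, 625), (1875, 625), (2500, 625), (3125, 625), (3750, 625), (4375, 625), (5000, 625), (5625, 625), (6250, 625), (6875, 625), (7500, 620)] (by decide)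
    (all_cons chk_kill_0 (all_cons chk_kill_1 (all_cons chk_kill_2 (all_cons chk_kill_3 (all_cons chk_kill_4 (all_cons chk_kill_5 (all_cons chk_kill_6 (all_cons chk_kill_7 (all_cons chk_kill_8 (all_cons chk_kill_9 (all_cons chk_kill_10 (all_cons chk_kill_11 (all_cons chk_kill_12 all_nil)))))))))))))

/-- every candidate other than the identity violates a relation -/
theorem chk_kill : ∀ q < 8120, killF 8120 7 f11 f12 fv [] LB0 LsB kills 472 q = true :=
  chk_kill_all

end Cfsg.Agent.RuOut
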