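import Cfsg.Agent.Lib.Lead.RuOut.LevBD
import Cfsg.Agent.Lib.Lead.RuOut.DV
import Cfsg.Agent.Lib.Lead.RuOut.DXR
import Cfsg.Agent.Lib.Lead.RuOut.Kills
import Cfsg.Agent.Lib.Lead.PF.Out1

/-! # The outer automorphism group of the Rudvalis group: the candidates for the images of `w` when `x` is mapped to `x ^ 2`, slices (generated) -/

set_option autoImplicit false
set_option Elab.async false
set_option maxRecDepth 100000

namespace Cfsg.Agent.RuOut

open Cfsg.Agent.PF Cfsg.Agent.Lib.Helper6 Cfsg.Agent.Lib.Helper6.TC Cfsg.Agent.Lib.Helper6.NatArr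
open Cfsg.Agent.PL (Acts evalF)

theorem chk_r_0 : allR 0 625 (fun q => killR 8120 7 fxr f12 fv [] LB0 LsB kills q) = true := by decide +kernel

theorem chk_r_1 : allR 625 625 (fun q => killR 8120 7 fxr f12 fv [] LB0 LsB kills q) = true := by decide +kernel

theorem chk_r_2 : allR 1250 625 (fun q => killR 8120 7 fxr f12 fv [] LB0 LsB kills q) = true := by decide +kernel

theorem chk_r_3 : allR 1875 625 (fun q => killR 8120 7 fxr f12 fv [] LB0 LsB kills q) = true := by decide +kernel

theorem chk_r_4 : allR 2500 625 (fun q => killR 8120 7 fxr f12 fv [] LB0 LsB kills q) = true := by decide +kernel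

theorem chk_r_5 : allR 3125 625 (fun q => killR 8120 7 fxr f12 fv [] LB0 LsB kills q) = true := by decide +kernel

theorem chk_r_6 : allR 3750 625 (fun q => killR 8120 7 fxr f12 fv [] LB0 LsB kills q) = true := by decide +kernel

theorem chk_r_7 : allR 4375 625 (fun q => killR 8120 7 fxr f12 fv [] LB0 LsB kills q) = true := by decide +kernel

theorem chk_r_8 : allR 5000 625 (fun q => killR 8120 7 fxr f12 fv [] LB0 LsB kills q) = true := by decide +kernel

theorem chk_r_9 : allR 5625 625 (fun q => killR 8120 7 fxr f12 fv [] LB0 LsB kills q) = true := by decide +kernel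

theorem chk_r_10 : allR 6250 625 (fun q => killR 8120 7 fxr f12 fv [] LB0 LsB kills q) = true := by decide +kernel

theorem chk_r_11 : allR 6875 625 (fun q => killR 8120 7 fxr f12 fv [] LB0 LsB kills q) = true := by decide +kernel

theorem chk_r_12 : allR 7500 620 (fun q => killR 8120 7 fxr f12 fv [] LB0 LsB kills q) = true := by decide +kernel


end Cfsg.Agent.RuOut
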