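import Cfsg.Agent.Lib.Lead.RuOut.C3
import Cfsg.Agent.Lib.Lead.RuOut.Base

/-! # The outer automorphism group of the Rudvalis group: the element number 3 (generated) -/

set_option autoImplicit false
set_option maxRecDepth 100000

namespace Cfsg.Agent.RuOut

open Cfsg.Agent.PF Cfsg.Agent.Lib.Helper6 Cfsg.Agent.Lib.Helper6.TC Cfsg.Agent.Lib.Helper6.NatArr
open Cfsg.Agent.PL (Acts evalF)

theorem rep3 : Rep P f3 := (rep_gen (i := 3) (by norm_num)).congr eq3

end Cfsg.Agent.RuOut
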