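import Cfsg.Agent.Lib.Lead.RuOut.C7
import Cfsg.Agent.Lib.Lead.RuOut.T0
import Cfsg.Agent.Lib.Lead.RuOut.T2
import Cfsg.Agent.Lib.Lead.RuOut.T4
import Cfsg.Agent.Lib.Lead.RuOut.T5
import Cfsg.Agent.Lib.Lead.RuOut.T6

/-! # The outer automorphism group of the Rudvalis group: the element number 7 (generated) -/

set_option autoImplicit false
set_option maxRecDepth 100000

namespace Cfsg.Agent.RuOut

open Cfsg.Agent.PF Cfsg.Agent.Lib.Helper6 Cfsg.Agent.Lib.Helper6.TC Cfsg.Agent.Lib.Helper6.NatArr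
open Cfsg.Agent.PL (Acts evalF)

theorem rep7 : Rep P f7 :=
  (rep_wordR (l := W7) (Reps.cons rep5 (Reps.cons rep6 (Reps.cons rep6 (Reps.cons rep5 (Reps.cons rep5 (Reps.cons rep6 (Reps.cons rep6 (Reps.cons rep6 (Reps.cons rep5 (Reps.cons rep5 (Reps.cons rep6 (Reps.cons rep6 (Reps.cons rep4 (Reps.cons rep5 (Reps.cons rep0 (Reps.cons rep2 (Reps.cons rep0 (Reps.cons rep0 (Reps.cons rep0 (Reps.cons rep5 (Reps.cons rep4 (Reps.cons rep0 (Reps.nil P)))))))))))))))))))))))).congr eq7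

end Cfsg.Agent.RuOut
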