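import Cfsg.Agent.Lib.Lead.RuOut.C8
import Cfsg.Agent.Lib.Lead.RuOut.T0
import Cfsg.Agent.Lib.Lead.RuOut.T3
import Cfsg.Agent.Lib.Lead.RuOut.T5
import Cfsg.Agent.Lib.Lead.RuOut.T6
import Cfsg.Agent.Lib.Lead.RuOut.T7

/-! # The outer automorphism group of the Rudvalis group: the element number 8 (generated) -/

set_option autoImplicit false
set_option maxRecDepth 100000

namespace Cfsg.Agent.RuOut

open Cfsg.Agent.PF Cfsg.Agent.Lib.Helper6 Cfsg.Agent.Lib.Helper6.TC Cfsg.Agent.Lib.Helper6.NatArr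
open Cfsg.Agent.PL (Acts evalF)

theorem rep8 : Rep P f8 :=
  (rep_wordR (l := W8) (Reps.cons rep6 (Reps.cons rep7 (Reps.cons rep7 (Reps.cons rep5 (Reps.cons rep7 (Reps.cons rep6 (Reps.cons rep3 (Reps.cons rep6 (Reps.cons rep0 (Reps.cons rep3 (Reps.cons rep7 (Reps.cons rep7 (Reps.cons rep3 (Reps.nil P))))))))))))))).congr eq8

end Cfsg.Agent.RuOut
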