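import Cfsg.Agent.Lib.Lead.RuOut.C10
import Cfsg.Agent.Lib.Lead.RuOut.T0
import Cfsg.Agent.Lib.Lead.RuOut.T1
import Cfsg.Agent.Lib.Lead.RuOut.T2
import Cfsg.Agent.Lib.Lead.RuOut.T4
import Cfsg.Agent.Lib.Lead.RuOut.T5
import Cfsg.Agent.Lib.Lead.RuOut.T6
import Cfsg.Agent.Lib.Lead.RuOut.T7
import Cfsg.Agent.Lib.Lead.RuOut.T8

/-! # The outer automorphism group of the Rudvalis group: the element number 10 (generated) -/

set_option autoImplicit false
set_option maxRecDepth 100000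

namespace Cfsg.Agent.RuOut

open Cfsg.Agent.PF Cfsg.Agent.Lib.Helper6 Cfsg.Agent.Lib.Helper6.TC Cfsg.Agent.Lib.Helper6.NatArr
open Cfsg.Agent.PL (Acts evalF)

theorem rep10 : Rep P f10 :=
  (rep_wordR (l := W10) (Reps.cons rep7 (Reps.cons rep8 (Reps.cons rep7 (Reps.cons rep7 (Reps.cons rep6 (Reps.cons rep5 (Reps.cons rep6 (Reps.cons rep5 (Reps.cons rep6 (Reps.cons rep6 (Reps.cons rep4 (Reps.cons rep1 (Reps.cons rep2 (Reps.cons rep6 (Reps.cons rep5 (Reps.cons rep6 (Reps.cons rep8 (Reps.cons rep6 (Reps.cons rep5 (Reps.cons rep7 (Reps.cons rep0 (Reps.cons rep7 (Reps.cons rep0 (Reps.cons rep4 (Reps.nil P)))))))))))))))))))))))))).congr eq10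

end Cfsg.Agent.RuOut
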