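import Cfsg.Agent.Lib.Lead.RuOut.C9
import Cfsg.Agent.Lib.Lead.RuOut.T5
import Cfsg.Agent.Lib.Lead.RuOut.T6
import Cfsg.Agent.Lib.Lead.RuOut.T7
import Cfsg.Agent.Lib.Lead.RuOut.T8

/-! # The outer automorphism group of the Rudvalis group: the element number 9 (generated) -/

set_option autoImplicit false
set_option maxRecDepth 100000

namespace Cfsg.Agent.RuOut

open Cfsg.Agent.PF Cfsg.Agent.Lib.Helper6 Cfsg.Agent.Lib.Helper6.TC Cfsg.Agent.Lib.Helper6.NatArr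
open Cfsg.Agent.PL (Acts evalF)

theorem rep9 : Rep P f9 :=
  (rep_wordR (l := W9) (Reps.cons rep8 (Reps.cons rep8 (Reps.cons rep8 (Reps.cons rep8 (Reps.cons rep7 (Reps.cons rep8 (Reps.cons rep7 (Reps.cons rep7 (Reps.cons rep7 (Reps.cons rep5 (Reps.cons rep8 (Reps.cons rep6 (Reps.cons rep8 (Reps.cons rep5 (Reps.cons rep6 (Reps.cons rep8 (Reps.cons rep6 (Reps.cons rep7 (Reps.cons rep7 (Reps.cons rep8 (Reps.cons rep8 (Reps.cons rep5 (Reps.cons rep8 (Reps.nil P))))))))))))))))))))))))).congr eq9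

end Cfsg.Agent.RuOut
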