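import Cfsg.Agent.Lib.Lead.RuOut.LevAD
import Cfsg.Agent.Lib.Lead.RuOut.T0
import Cfsg.Agent.Lib.Lead.RuOut.T1
import Cfsg.Agent.Lib.Lead.RuOut.T2
import Cfsg.Agent.Lib.Lead.RuOut.T3
import Cfsg.Agent.Lib.Lead.RuOut.T4
import Cfsg.Agent.Lib.Lead.RuOut.T5
import Cfsg.Agent.Lib.Lead.RuOut.T6
import Cfsg.Agent.Lib.Lead.RuOut.T7
import Cfsg.Agent.Lib.Lead.RuOut.T8
import Cfsg.Agent.Lib.Lead.RuOut.T9
import Cfsg.Agent.Lib.Lead.RuOut.T10

/-! # The outer automorphism group of the Rudvalis group: the generators of the trees of the chain `A` are elements of the group (generated) -/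

set_option autoImplicit false
set_option maxRecDepth 100000

namespace Cfsg.Agent.RuOut

open Cfsg.Agent.PF Cfsg.Agent.Lib.Helper6 Cfsg.Agent.Lib.Helper6.TC Cfsg.Agent.Lib.Helper6.NatArr
open Cfsg.Agent.PL (Acts evalF)

theorem repsA0 : Reps P LA0.2.1 :=
  (Reps.cons rep0 (Reps.cons rep1 (Reps.cons rep2 (Reps.cons rep3 (Reps.cons rep4 (Reps.cons rep5 (Reps.cons rep6 (Reps.cons rep7 (Reps.cons rep8 (Reps.cons rep9 (Reps.cons rep10 (Reps.nil P))))))))))))

theorem repsA1 : Reps P LA1.2.1 :=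
  (Reps.cons rep5 (Reps.cons rep6 (Reps.cons rep7 (Reps.cons rep8 (Reps.cons rep9 (Reps.cons rep10 (Reps.nil P)))))))

theorem repsA2 : Reps P LA2.2.1 :=
  (Reps.cons rep7 (Reps.cons rep8 (Reps.cons rep9 (Reps.cons rep10 (Reps.nil P)))))

theorem repsA3 : Reps P LA3.2.1 :=
  (Reps.cons rep9 (Reps.cons rep10 (Reps.nil P)))

theorem hA : ∀ L ∈ LA0 :: LsA, ∀ c ∈ L.2.1, Rep P c := by
  intro L hL
  simp only [LsA, List.mem_cons, List.not_mem_nil, or_false] at hL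
  rcases hL with rfl | rfl | rfl | rfl
  · exact repsA0
  · exact repsA1
  · exact repsA2
  · exact repsA3

end Cfsg.Agent.RuOut
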