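import Cfsg.Agent.Lib.Lead.RuOut.C12
import Cfsg.Agent.Lib.Lead.RuOut.T4
import Cfsg.Agent.Lib.Lead.RuOut.T5
import Cfsg.Agent.Lib.Lead.RuOut.T6
import Cfsg.Agent.Lib.Lead.RuOut.T7
import Cfsg.Agent.Lib.Lead.RuOut.T8
import Cfsg.Agent.Lib.Lead.RuOut.T9
import Cfsg.Agent.Lib.Lead.RuOut.T10

/-! # The outer automorphism group of the Rudvalis group: the element number 12 (generated) -/

set_option autoImplicit false
set_option maxRecDepth 100000

namespace Cfsg.Agent.RuOut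

open Cfsg.Agent.PF Cfsg.Agent.Lib.Helper6 Cfsg.Agent.Lib.Helper6.TC Cfsg.Agent.Lib.Helper6.NatArr
open Cfsg.Agent.PL (Acts evalF)

theorem rep12 : Rep P f12 :=
  (rep_wordR (l := W12) (Reps.cons rep10 (Reps.cons rep9 (Reps.cons rep9 (Reps.cons rep9 (Reps.cons rep9 (Reps.cons rep10 (Reps.cons rep7 (Reps.cons rep7 (Reps.cons rep10 (Reps.cons rep9 (Reps.cons rep8 (Reps.cons rep6 (Reps.cons rep5 (Reps.cons rep6 (Reps.cons rep5 (Reps.cons rep5 (Reps.cons rep4 (Reps.cons rep8 (Reps.cons rep6 (Reps.nil P))))))))))))))))))))).congr eq12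

end Cfsg.Agent.RuOut
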