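import Cfsg.Agent.Lib.Lead.RuOut.C11
import Cfsg.Agent.Lib.Lead.RuOut.T3
import Cfsg.Agent.Lib.Lead.RuOut.T4
import Cfsg.Agent.Lib.Lead.RuOut.T5
import Cfsg.Agent.Lib.Lead.RuOut.T6
import Cfsg.Agent.Lib.Lead.RuOut.T7
import Cfsg.Agent.Lib.Lead.RuOut.T8
import Cfsg.Agent.Lib.Lead.RuOut.T9
import Cfsg.Agent.Lib.Lead.RuOut.T10

/-! # The outer automorphism group of the Rudvalis group: the element number 11 (generated) -/

set_option autoImplicit false
set_option maxRecDepth 100000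

namespace Cfsg.Agent.RuOut

open Cfsg.Agent.PF Cfsg.Agent.Lib.Helper6 Cfsg.Agent.Lib.Helper6.TC Cfsg.Agent.Lib.Helper6.NatArr
open Cfsg.Agent.PL (Acts evalF)

theorem rep11 : Rep P f11 :=
  (rep_wordR (l := W11) (Reps.cons rep10 (Reps.cons rep9 (Reps.cons rep7 (Reps.cons rep7 (Reps.cons rep7 (Reps.cons rep9 (Reps.cons rep8 (Reps.cons rep10 (Reps.cons rep5 (Reps.cons rep5 (Reps.cons rep6 (Reps.cons rep5 (Reps.cons rep7 (Reps.cons rep10 (Reps.cons rep4 (Reps.cons rep6 (Reps.cons rep4 (Reps.cons rep10 (Reps.cons rep7 (Reps.cons rep3 (Reps.nil P)))))))))))))))))))))).congr eq11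

end Cfsg.Agent.RuOut
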