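import Cfsg.Agent.Lib.Lead.RuOut.C14
import Cfsg.Agent.Lib.Lead.RuOut.T1
import Cfsg.Agent.Lib.Lead.RuOut.T3
import Cfsg.Agent.Lib.Lead.RuOut.T4
import Cfsg.Agent.Lib.Lead.RuOut.T7
import Cfsg.Agent.Lib.Lead.RuOut.T9
import Cfsg.Agent.Lib.Lead.RuOut.T12
import Cfsg.Agent.Lib.Lead.RuOut.T13

/-! # The outer automorphism group of the Rudvalis group: the element number 14 (generated) -/

set_option autoImplicit false
set_option maxRecDepth 100000

namespace Cfsg.Agent.RuOut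

open Cfsg.Agent.PF Cfsg.Agent.Lib.Helper6 Cfsg.Agent.Lib.Helper6.TC Cfsg.Agent.Lib.Helper6.NatArr
open Cfsg.Agent.PL (Acts evalF)

theorem rep14 : Rep P f14 :=
  (rep_wordR (l := W14) (Reps.cons rep4 (Reps.cons rep12 (Reps.cons rep1 (Reps.cons rep7 (Reps.cons rep13 (Reps.cons rep4 (Reps.cons rep4 (Reps.cons rep9 (Reps.cons rep3 (Reps.cons rep9 (Reps.nil P)))))))))))).congr eq14

end Cfsg.Agent.RuOut
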