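import Cfsg.Agent.Lib.Lead.RuOut.C15
import Cfsg.Agent.Lib.Lead.RuOut.T0
import Cfsg.Agent.Lib.Lead.RuOut.T1
import Cfsg.Agent.Lib.Lead.RuOut.T6
import Cfsg.Agent.Lib.Lead.RuOut.T7
import Cfsg.Agent.Lib.Lead.RuOut.T9
import Cfsg.Agent.Lib.Lead.RuOut.T10
import Cfsg.Agent.Lib.Lead.RuOut.T11
import Cfsg.Agent.Lib.Lead.RuOut.T12
import Cfsg.Agent.Lib.Lead.RuOut.T13
import Cfsg.Agent.Lib.Lead.RuOut.T14

/-! # The outer automorphism group of the Rudvalis group: the element number 15 (generated) -/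

set_option autoImplicit false
set_option maxRecDepth 100000

namespace Cfsg.Agent.RuOut

open Cfsg.Agent.PF Cfsg.Agent.Lib.Helper6 Cfsg.Agent.Lib.Helper6.TC Cfsg.Agent.Lib.Helper6.NatArr
open Cfsg.Agent.PL (Acts evalF)

theorem rep15 : Rep P f15 :=
  (rep_wordR (l := W15) (Reps.cons rep13 (Reps.cons rep13 (Reps.cons rep13 (Reps.cons rep13 (Reps.cons rep14 (Reps.cons rep14 (Reps.cons rep14 (Reps.cons rep14 (Reps.cons rep14 (Reps.cons rep1 (Reps.cons rep0 (Reps.cons rep7 (Reps.cons rep9 (Reps.cons rep6 (Reps.cons rep10 (Reps.cons rep6 (Reps.cons rep12 (Reps.cons rep11 (Reps.cons rep13 (Reps.nil P))))))))))))))))))))).congr eq15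

end Cfsg.Agent.RuOut
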