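import Cfsg.Agent.Lib.Lead.RuOut.C16
import Cfsg.Agent.Lib.Lead.RuOut.T0
import Cfsg.Agent.Lib.Lead.RuOut.T1
import Cfsg.Agent.Lib.Lead.RuOut.T4
import Cfsg.Agent.Lib.Lead.RuOut.T8
import Cfsg.Agent.Lib.Lead.RuOut.T11
import Cfsg.Agent.Lib.Lead.RuOut.T13
import Cfsg.Agent.Lib.Lead.RuOut.T14
import Cfsg.Agent.Lib.Lead.RuOut.T15

/-! # The outer automorphism group of the Rudvalis group: the element number 16 (generated) -/

set_option autoImplicit false
set_option maxRecDepth 100000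

namespace Cfsg.Agent.RuOut

open Cfsg.Agent.PF Cfsg.Agent.Lib.Helper6 Cfsg.Agent.Lib.Helper6.TC Cfsg.Agent.Lib.Helper6.NatArr
open Cfsg.Agent.PL (Acts evalF)

theorem rep16 : Rep P f16 :=
  (rep_wordR (l := W16) (Reps.cons rep13 (Reps.cons rep14 (Reps.cons rep14 (Reps.cons rep14 (Reps.cons rep15 (Reps.cons rep15 (Reps.cons rep15 (Reps.cons rep0 (Reps.cons rep8 (Reps.cons rep4 (Reps.cons rep11 (Reps.cons rep14 (Reps.cons rep8 (Reps.cons rep1 (Reps.cons rep0 (Reps.cons rep11 (Reps.nil P)))))))))))))))))).congr eq16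

end Cfsg.Agent.RuOut
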