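import Cfsg.Agent.Lib.Lead.RuOut.C18
import Cfsg.Agent.Lib.Lead.RuOut.T13
import Cfsg.Agent.Lib.Lead.RuOut.T14
import Cfsg.Agent.Lib.Lead.RuOut.T15
import Cfsg.Agent.Lib.Lead.RuOut.T16
import Cfsg.Agent.Lib.Lead.RuOut.T17

/-! # The outer automorphism group of the Rudvalis group: the element number 18 (generated) -/

set_option autoImplicit false
set_option maxRecDepth 100000

namespace Cfsg.Agent.RuOut

open Cfsg.Agent.PF Cfsg.Agent.Lib.Helper6 Cfsg.Agent.Lib.Helper6.TC Cfsg.Agent.Lib.Helper6.NatArr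
open Cfsg.Agent.PL (Acts evalF)

theorem rep18 : Rep P f18 :=
  (rep_wordR (l := W18) (Reps.cons rep15 (Reps.cons rep16 (Reps.cons rep16 (Reps.cons rep15 (Reps.cons rep16 (Reps.cons rep15 (Reps.cons rep13 (Reps.cons rep13 (Reps.cons rep15 (Reps.cons rep15 (Reps.cons rep15 (Reps.cons rep13 (Reps.cons rep14 (Reps.cons rep14 (Reps.cons rep17 (Reps.cons rep17 (Reps.cons rep15 (Reps.cons rep17 (Reps.nil P)))))))))))))))))))).congr eq18

end Cfsg.Agent.RuOut
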