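import Cfsg.Agent.Lib.Lead.RuOut.C19
import Cfsg.Agent.Lib.Lead.RuOut.T0
import Cfsg.Agent.Lib.Lead.RuOut.T9
import Cfsg.Agent.Lib.Lead.RuOut.T11
import Cfsg.Agent.Lib.Lead.RuOut.T12
import Cfsg.Agent.Lib.Lead.RuOut.T13
import Cfsg.Agent.Lib.Lead.RuOut.T14
import Cfsg.Agent.Lib.Lead.RuOut.T15
import Cfsg.Agent.Lib.Lead.RuOut.T16
import Cfsg.Agent.Lib.Lead.RuOut.T17

/-! # The outer automorphism group of the Rudvalis group: the element number 19 (generated) -/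

set_option autoImplicit false
set_option maxRecDepth 100000

namespace Cfsg.Agent.RuOut

open Cfsg.Agent.PF Cfsg.Agent.Lib.Helper6 Cfsg.Agent.Lib.Helper6.TC Cfsg.Agent.Lib.Helper6.NatArr
open Cfsg.Agent.PL (Acts evalF)

theorem rep19 : Rep P f19 :=
  (rep_wordR (l := W19) (Reps.cons rep16 (Reps.cons rep16 (Reps.cons rep16 (Reps.cons rep15 (Reps.cons rep15 (Reps.cons rep16 (Reps.cons rep13 (Reps.cons rep17 (Reps.cons rep13 (Reps.cons rep17 (Reps.cons rep14 (Reps.cons rep9 (Reps.cons rep0 (Reps.cons rep12 (Reps.cons rep16 (Reps.cons rep16 (Reps.cons rep11 (Reps.cons rep14 (Reps.cons rep14 (Reps.cons rep11 (Reps.nil P)))))))))))))))))))))).congr eq19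

end Cfsg.Agent.RuOut
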