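import Cfsg.Agent.Lib.Lead.RuOut.LevBD
import Cfsg.Agent.Lib.Lead.RuOut.T0
import Cfsg.Agent.Lib.Lead.RuOut.T1
import Cfsg.Agent.Lib.Lead.RuOut.T2
import Cfsg.Agent.Lib.Lead.RuOut.T3
import Cfsg.Agent.Lib.Lead.RuOut.T4
import Cfsg.Agent.Lib.Lead.RuOut.T5
import Cfsg.Agent.Lib.Lead.RuOut.T6
import Cfsg.Agent.Lib.Lead.RuOut.T7
import Cfsg.Agent.Lib.Lead.RuOut.T8
import Cfsg.Agent.Lib.Lead.RuOut.T9
import Cfsg.Agent.Lib.Lead.RuOut.T10
import Cfsg.Agent.Lib.Lead.RuOut.T11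
import Cfsg.Agent.Lib.Lead.RuOut.T12
import Cfsg.Agent.Lib.Lead.RuOut.T13
import Cfsg.Agent.Lib.Lead.RuOut.T14
import Cfsg.Agent.Lib.Lead.RuOut.T15
import Cfsg.Agent.Lib.Lead.RuOut.T16
import Cfsg.Agent.Lib.Lead.RuOut.T17
import Cfsg.Agent.Lib.Lead.RuOut.T18
import Cfsg.Agent.Lib.Lead.RuOut.T19

/-! # The outer automorphism group of the Rudvalis group: the generators of the trees of the chain `B` are elements of the group (generated) -/

set_option autoImplicit false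
set_option maxRecDepth 100000

namespace Cfsg.Agent.RuOut

open Cfsg.Agent.PF Cfsg.Agent.Lib.Helper6 Cfsg.Agent.Lib.Helper6.TC Cfsg.Agent.Lib.Helper6.NatArr
open Cfsg.Agent.PL (Acts evalF)

theorem repsB0 : Reps P LB0.2.1 :=
  (Reps.cons rep0 (Reps.cons rep1 (Reps.cons rep2 (Reps.cons rep3 (Reps.cons rep4 (Reps.cons rep5 (Reps.cons rep6 (Reps.cons rep7 (Reps.cons rep8 (Reps.cons rep9 (Reps.cons rep10 (Reps.cons rep11 (Reps.cons rep12 (Reps.cons rep13 (Reps.cons rep14 (Reps.cons rep15 (Reps.cons rep16 (Reps.cons rep17 (Reps.cons rep18 (Reps.cons rep19 (Reps.nil P)))))))))))))))))))))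

theorem repsB1 : Reps P LB1.2.1 :=
  (Reps.cons rep13 (Reps.cons rep14 (Reps.cons rep15 (Reps.cons rep16 (Reps.cons rep17 (Reps.cons rep18 (Reps.cons rep19 (Reps.nil P))))))))

theorem repsB2 : Reps P LB2.2.1 :=
  (Reps.cons rep15 (Reps.cons rep16 (Reps.cons rep17 (Reps.cons rep18 (Reps.cons rep19 (Reps.nil P))))))

theorem repsB3 : Reps P LB3.2.1 :=
  (Reps.cons rep17 (Reps.cons rep18 (Reps.cons rep19 (Reps.nil P))))

theorem hB : ∀ L ∈ LB0 :: LsB, ∀ c ∈ L.2.1, Rep P c := by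
  intro L hL
  simp only [LsB, List.mem_cons, List.not_mem_nil, or_false] at hL
  rcases hL with rfl | rfl | rfl | rfl
  · exact repsB0
  · exact repsB1
  · exact repsB2
  · exact repsB3

end Cfsg.Agent.RuOut
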