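import Cfsg.Agent.Lib.Lead.RuOut.C20
import Cfsg.Agent.Lib.Lead.RuOut.T1
import Cfsg.Agent.Lib.Lead.RuOut.T2
import Cfsg.Agent.Lib.Lead.RuOut.T4
import Cfsg.Agent.Lib.Lead.RuOut.T5
import Cfsg.Agent.Lib.Lead.RuOut.T6
import Cfsg.Agent.Lib.Lead.RuOut.T7
import Cfsg.Agent.Lib.Lead.RuOut.T8
import Cfsg.Agent.Lib.Lead.RuOut.T9
import Cfsg.Agent.Lib.Lead.RuOut.T10

/-! # The outer automorphism group of the Rudvalis group: the element number 20 (generated) -/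

set_option autoImplicit false
set_option maxRecDepth 100000

namespace Cfsg.Agent.RuOut

open Cfsg.Agent.PF Cfsg.Agent.Lib.Helper6 Cfsg.Agent.Lib.Helper6.TC Cfsg.Agent.Lib.Helper6.NatArr
open Cfsg.Agent.PL (Acts evalF)

theorem rep20 : Rep P f20 :=
  (rep_wordR (l := W20) (Reps.cons rep10 (Reps.cons rep9 (Reps.cons rep9 (Reps.cons rep9 (Reps.cons rep9 (Reps.cons rep9 (Reps.cons rep9 (Reps.cons rep7 (Reps.cons rep7 (Reps.cons rep9 (Reps.cons rep7 (Reps.cons rep7 (Reps.cons rep6 (Reps.cons rep5 (Reps.cons rep5 (Reps.cons rep8 (Reps.cons rep10 (Reps.cons rep4 (Reps.cons rep1 (Reps.cons rep5 (Reps.cons rep7 (Reps.cons rep7 (Reps.cons rep2 (Reps.nil P))))))))))))))))))))))))).congr eq20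

end Cfsg.Agent.RuOut
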