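import Cfsg.Agent.Lib.Lead.RuOut.T11
import Cfsg.Agent.Lib.Lead.RuOut.T12
import Cfsg.Agent.Lib.Lead.RuOut.T20

/-! # The outer automorphism group of the Rudvalis group: the elements `x`, `y`, `w` (generated) -/

set_option autoImplicit false
set_option maxRecDepth 100000

namespace Cfsg.Agent.RuOut

open Cfsg.Agent.PF Cfsg.Agent.Lib.Helper6 Cfsg.Agent.Lib.Helper6.TC Cfsg.Agent.Lib.Helper6.NatArr
open Cfsg.Agent.PL (Acts evalF)

/-- the element `x` of order 29 -/
noncomputable def x : Equiv.Perm (Fin 8120) := Classical.choose rep11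
/-- the element `y` normalising `⟨x⟩` -/
noncomputable def y : Equiv.Perm (Fin 8120) := Classical.choose rep12
/-- the element `w` normalising `⟨y⟩` -/
noncomputable def w : Equiv.Perm (Fin 8120) := Classical.choose rep20

theorem hx : x ∈ P := (Classical.choose_spec rep11).1
theorem hy : y ∈ P := (Classical.choose_spec rep12).1
theorem hw : w ∈ P := (Classical.choose_spec rep20).1
theorem ax : Acts x f11 := (Classical.choose_spec rep11).2
theorem ay : Acts y f12 := (Classical.choose_spec rep12).2
theorem aw : Acts w f20 := (Classical.choose_spec rep20).2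

/-- the subgroup generated by `x`, `y`, `w` -/
noncomputable abbrev K : Subgroup (Equiv.Perm (Fin 8120)) := Subgroup.closure {x, y, w}

theorem repK11 : Rep K f11 := ⟨x, Subgroup.subset_closure (by simp), ax⟩
theorem repK12 : Rep K f12 := ⟨y, Subgroup.subset_closure (by simp), ay⟩
theorem repK20 : Rep K f20 := ⟨w, Subgroup.subset_closure (by simp), aw⟩

end Cfsg.Agent.RuOut
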