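import Cfsg.Agent.Lib.Lead.RuOut.C22
import Cfsg.Agent.Lib.Lead.RuOut.T21
import Cfsg.Agent.Lib.Lead.RuOut.XYW

/-! # The outer automorphism group of the Rudvalis group: the element number 22 (generated) -/

set_option autoImplicit false
set_option maxRecDepth 100000

namespace Cfsg.Agent.RuOut

open Cfsg.Agent.PF Cfsg.Agent.Lib.Helper6 Cfsg.Agent.Lib.Helper6.TC Cfsg.Agent.Lib.Helper6.NatArr
open Cfsg.Agent.PL (Acts evalF)

theorem rep22 : Rep K f22 :=
  (rep_wordR (l := W22) (Reps.cons repK11 (Reps.cons rep21 (Reps.cons repK12 (Reps.cons rep21 (Reps.cons repK20 (Reps.cons rep21 (Reps.cons repK11 (Reps.cons rep21 (Reps.cons repK20 (Reps.cons repK12 (Reps.cons repK11 (Reps.cons repK20 (Reps.cons repK11 (Reps.cons repK11 (Reps.cons repK11 (Reps.nil K))))))))))))))))).congr eq22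

end Cfsg.Agent.RuOut
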