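import Cfsg.Agent.Lib.Lead.RuOut.C23
import Cfsg.Agent.Lib.Lead.RuOut.T21
import Cfsg.Agent.Lib.Lead.RuOut.T22
import Cfsg.Agent.Lib.Lead.RuOut.XYW

/-! # The outer automorphism group of the Rudvalis group: the element number 23 (generated) -/

set_option autoImplicit false
set_option maxRecDepth 100000

namespace Cfsg.Agent.RuOut

open Cfsg.Agent.PF Cfsg.Agent.Lib.Helper6 Cfsg.Agent.Lib.Helper6.TC Cfsg.Agent.Lib.Helper6.NatArr
open Cfsg.Agent.PL (Acts evalF)

theorem rep23 : Rep K f23 :=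
  (rep_wordR (l := W23) (Reps.cons rep22 (Reps.cons rep21 (Reps.cons rep22 (Reps.cons rep21 (Reps.cons rep21 (Reps.cons rep21 (Reps.cons repK12 (Reps.cons repK11 (Reps.cons rep21 (Reps.cons rep22 (Reps.cons rep21 (Reps.cons repK11 (Reps.cons rep22 (Reps.cons repK11 (Reps.cons rep21 (Reps.cons repK12 (Reps.cons rep21 (Reps.cons repK11 (Reps.cons rep22 (Reps.cons repK12 (Reps.cons rep21 (Reps.cons rep21 (Reps.cons rep22 (Reps.nil K))))))))))))))))))))))))).congr eq23

end Cfsg.Agent.RuOut
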