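import Cfsg.Agent.Lib.Lead.RuOut.C24
import Cfsg.Agent.Lib.Lead.RuOut.T21
import Cfsg.Agent.Lib.Lead.RuOut.T22
import Cfsg.Agent.Lib.Lead.RuOut.T23
import Cfsg.Agent.Lib.Lead.RuOut.XYW

/-! # The outer automorphism group of the Rudvalis group: the element number 24 (generated) -/

set_option autoImplicit false
set_option maxRecDepth 100000

namespace Cfsg.Agent.RuOut

open Cfsg.Agent.PF Cfsg.Agent.Lib.Helper6 Cfsg.Agent.Lib.Helper6.TC Cfsg.Agent.Lib.Helper6.NatArr
open Cfsg.Agent.PL (Acts evalF)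

theorem rep24 : Rep K f24 :=
  (rep_wordR (l := W24) (Reps.cons rep21 (Reps.cons rep21 (Reps.cons rep23 (Reps.cons rep23 (Reps.cons rep21 (Reps.cons rep21 (Reps.cons rep22 (Reps.cons rep23 (Reps.cons repK11 (Reps.cons repK11 (Reps.cons rep23 (Reps.cons repK11 (Reps.cons rep23 (Reps.cons rep23 (Reps.cons repK11 (Reps.cons rep23 (Reps.cons repK12 (Reps.cons rep21 (Reps.cons repK20 (Reps.cons repK11 (Reps.cons rep21 (Reps.cons rep22 (Reps.cons rep23 (Reps.cons repK11 (Reps.cons repK12 (Reps.nil K))))))))))))))))))))))))))).congr eq24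

end Cfsg.Agent.RuOut
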