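import Cfsg.Agent.Lib.Lead.RuOut.C25
import Cfsg.Agent.Lib.Lead.RuOut.T21
import Cfsg.Agent.Lib.Lead.RuOut.T22
import Cfsg.Agent.Lib.Lead.RuOut.T23
import Cfsg.Agent.Lib.Lead.RuOut.T24
import Cfsg.Agent.Lib.Lead.RuOut.XYW

/-! # The outer automorphism group of the Rudvalis group: the element number 25 (generated) -/

set_option autoImplicit false
set_option maxRecDepth 100000

namespace Cfsg.Agent.RuOut

open Cfsg.Agent.PF Cfsg.Agent.Lib.Helper6 Cfsg.Agent.Lib.Helper6.TC Cfsg.Agent.Lib.Helper6.NatArr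
open Cfsg.Agent.PL (Acts evalF)

theorem rep25 : Rep K f25 :=
  (rep_wordR (l := W25) (Reps.cons rep24 (Reps.cons rep24 (Reps.cons rep23 (Reps.cons rep24 (Reps.cons rep23 (Reps.cons rep23 (Reps.cons rep23 (Reps.cons rep24 (Reps.cons rep24 (Reps.cons rep21 (Reps.cons rep23 (Reps.cons rep23 (Reps.cons rep22 (Reps.cons rep21 (Reps.cons rep22 (Reps.cons repK11 (Reps.cons repK11 (Reps.cons repK11 (Reps.cons rep21 (Reps.cons repK20 (Reps.cons repK11 (Reps.cons rep23 (Reps.cons rep24 (Reps.cons repK20 (Reps.cons repK11 (Reps.cons rep23 (Reps.cons repK20 (Reps.cons rep23 (Reps.cons rep23 (Reps.cons rep22 (Reps.cons rep21 (Reps.nil K))))))))))))))))))))))))))))))))).congr eq25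

end Cfsg.Agent.RuOut
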