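import Cfsg.Agent.Lib.Lead.RuOut.LevGD
import Cfsg.Agent.Lib.Lead.RuOut.T21
import Cfsg.Agent.Lib.Lead.RuOut.T22
import Cfsg.Agent.Lib.Lead.RuOut.T23
import Cfsg.Agent.Lib.Lead.RuOut.T24
import Cfsg.Agent.Lib.Lead.RuOut.T25
import Cfsg.Agent.Lib.Lead.RuOut.T26
import Cfsg.Agent.Lib.Lead.RuOut.XYW

/-! # The outer automorphism group of the Rudvalis group: the generators of the trees of the chain `G` are elements of the group (generated) -/

set_option autoImplicit false
set_option maxRecDepth 100000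

namespace Cfsg.Agent.RuOut

open Cfsg.Agent.PF Cfsg.Agent.Lib.Helper6 Cfsg.Agent.Lib.Helper6.TC Cfsg.Agent.Lib.Helper6.NatArr
open Cfsg.Agent.PL (Acts evalF)

theorem repsG0 : Reps K LG0.2.1 :=
  (Reps.cons repK11 (Reps.cons repK12 (Reps.cons repK20 (Reps.cons rep21 (Reps.cons rep22 (Reps.cons rep23 (Reps.cons rep24 (Reps.cons rep25 (Reps.cons rep26 (Reps.nil K))))))))))

theorem repsG1 : Reps K LG1.2.1 :=
  (Reps.cons rep21 (Reps.cons rep22 (Reps.cons rep23 (Reps.cons rep24 (Reps.cons rep25 (Reps.cons rep26 (Reps.nil K)))))))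

theorem repsG2 : Reps K LG2.2.1 :=
  (Reps.cons rep23 (Reps.cons rep24 (Reps.cons rep25 (Reps.cons rep26 (Reps.nil K)))))

theorem repsG3 : Reps K LG3.2.1 :=
  (Reps.cons rep25 (Reps.cons rep26 (Reps.nil K)))

theorem hG : ∀ L ∈ LG0 :: LsG, ∀ c ∈ L.2.1, Rep K c := by
  intro L hL
  simp only [LsG, List.mem_cons, List.not_mem_nil, or_false] at hL
  rcases hL with rfl | rfl | rfl | rfl
  · exact repsG0
  · exact repsG1
  · exact repsG2
  · exact repsG3

end Cfsg.Agent.RuOut
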