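import Cfsg.Agent.Lib.Lead.RuOut.Rel0_0

/-! # The outer automorphism group of the Rudvalis group: the relation number 0 (generated) -/

set_option autoImplicit false
set_option maxRecDepth 100000

namespace Cfsg.Agent.RuOut

open Cfsg.Agent.PF Cfsg.Agent.Lib.Helper6 Cfsg.Agent.Lib.Helper6.TC Cfsg.Agent.Lib.Helper6.NatArr
open Cfsg.Agent.PL (Acts evalF)

theorem rel0_all : ∀ q < 8120, (fun q => Nat.beq ((evalF f11 f12 fv [0, 2])^[14] q) ((fun q => q) q)) q = true :=
  forall_lt_of_chunks (f := fun q => (fun q => Nat.beq ((evalF f11 f12 fv [0, 2])^[14] q) ((fun q => q) q)) q) [(0, 1624), (1624, 1624), (3248, 1624), (4872, 1624), (6496, 1624)] (by decide)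
    (all_cons rel0_0 (all_cons rel0_1 (all_cons rel0_2 (all_cons rel0_3 (all_cons rel0_4 all_nil)))))

/-- a relation -/
theorem rel0 : ∀ q < 8120, (evalF f11 f12 fv [0, 2])^[14] q = (fun q => q) q :=
  fun q hq => Nat.eq_of_beq_eq_true (rel0_all q hq)

end Cfsg.Agent.RuOut
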