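import Cfsg.Agent.Lib.Lead.RuOut.D11
import Cfsg.Agent.Lib.Lead.RuOut.D12
import Cfsg.Agent.Lib.Lead.RuOut.DV
import Cfsg.Agent.Lib.Lead.RuOut.Kills

/-! # The outer automorphism group of the Rudvalis group: the relation number 1, slices (generated) -/

set_option autoImplicit false
set_option Elab.async false
set_option maxRecDepth 100000

namespace Cfsg.Agent.RuOut

open Cfsg.Agent.PF Cfsg.Agent.Lib.Helper6 Cfsg.Agent.Lib.Helper6.TC Cfsg.Agent.Lib.Helper6.NatArr
open Cfsg.Agent.PL (Acts evalF)

theorem rel1_0 : allR 0 2030 (fun q => (fun q => Nat.beq ((evalF f11 f12 fv [0, 0, 2])^[7] q) ((fun q => q) q)) q) = true := by decide +kernel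

theorem rel1_1 : allR 2030 2030 (fun q => (fun q => Nat.beq ((evalF f11 f12 fv [0, 0, 2])^[7] q) ((fun q => q) q)) q) = true := by decide +kernel

theorem rel1_2 : allR 4060 2030 (fun q => (fun q => Nat.beq ((evalF f11 f12 fv [0, 0, 2])^[7] q) ((fun q => q) q)) q) = true := by decide +kernel

theorem rel1_3 : allR 6090 2030 (fun q => (fun q => Nat.beq ((evalF f11 f12 fv [0, 0, 2])^[7] q) ((fun q => q) q)) q) = true := by decide +kernel


end Cfsg.Agent.RuOut
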